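import Cfsg.Agent.H684.OQ.Av
import Cfsg.Prelude.Def_Characters

/-!
# ODD / GAL, box AH: the abstract Hecke datum (helper10)

`Dat cs N 𝒜`: elements `t a` (`a : N`) of a finite dimensional complex algebra, in the applications `t a = e * a * e` in
the group algebra.  `H = ker π` is abelian, `E ν` is the idempotent of the weight `ν : H →* ℂˣ`, `Wl ν` its stabiliser in
`W`, `Rl ν` the subgroup generated by the good reflections.  `Main` is the statement proved in `ODD/AH/Main.lean`.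
-/

set_option autoImplicit false

namespace Cfsg.Agent.ODD.AH

open Module Cfsg.Agent.H684.OQ

/-- Odd dimensional irreducible modules of Iwahori-Hecke algebras have rational characters (box HO). -/
def HO : Prop :=
  ∀ (I W V : Type) [Finite I] [Group W] [Finite W] (M : CoxeterMatrix I) (cs : CoxeterSystem M W)
    [AddCommGroup V] [Module ℂ V] [FiniteDimensional ℂ V] (τ : W → Module.End ℂ V) (p : I → ℚ),
    (∀ i j, M i j ≠ 5) → (∀ i, 0 < p i) → τ 1 = 1 →
    (∀ i w, cs.length w < cs.length (cs.simple i * w) → τ (cs.simple i) * τ w = τ (cs.simple i * w)) →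
    (∀ i, (τ (cs.simple i) - (p i : ℂ) • (1 : Module.End ℂ V)) * (τ (cs.simple i) + 1) = 0) →
    (∀ U : Submodule ℂ V, (∀ w, ∀ v ∈ U, τ w v ∈ U) → U = ⊥ ∨ U = ⊤) → Odd (finrank ℂ V) →
    ∀ (σ : ℂ ≃+* ℂ) (w : W), σ (LinearMap.trace ℂ V (τ w)) = LinearMap.trace ℂ V (τ w)

variable {I W : Type} [Group W] {M : CoxeterMatrix I}

/-- The abstract Hecke datum. -/
structure Dat (cs : CoxeterSystem M W) (N : Type) [Group N] (𝒜 : Type) [Ring 𝒜] [Algebra ℂ 𝒜] where
  π : N →* W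
  n : I → N
  π_n : ∀ i, π (n i) = cs.simple i
  comm : ∀ a b, π a = 1 → π b = 1 → a * b = b * a
  t : N → 𝒜
  t_left : ∀ h a, π h = 1 → t (h * a) = t h * t a
  t_right : ∀ a h, π h = 1 → t (a * h) = t a * t h
  add : ∀ i a, cs.length (π a) < cs.length (cs.simple i * π a) → t (n i) * t a = t (n i * a)
  quad : ∀ i, ∃ k : ℂ, k ≠ 0 ∧ t (n i) * t (n i)⁻¹ - k • t 1 ∈ Submodule.span ℂ (t '' {a | π a = cs.simple i})
  span : ∀ x, t 1 * x * t 1 ∈ Submodule.span ℂ (Set.range t)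
  tr0 : ∀ a, π a ≠ 1 → LinearMap.trace ℂ 𝒜 (LinearMap.mulLeft ℂ (t a)) = 0

namespace Dat

variable {cs : CoxeterSystem M W} {N : Type} [Group N] {𝒜 : Type} [Ring 𝒜] [Algebra ℂ 𝒜] (D : Dat cs N 𝒜)

/-- weights -/
abbrev Wt : Type := D.π.ker →* ℂˣ

/-- the action of `N` on the weights: `act a ν h = ν (a⁻¹ * h * a)` -/
def act (a : N) (ν : D.Wt) : D.Wt := ν.comp (MulAut.conjNormal a⁻¹).toMonoidHom

/-- the idempotent of a weight -/
noncomputable def E [Finite N] (ν : D.Wt) : 𝒜 :=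
  letI := Fintype.ofFinite D.π.ker
  (Nat.card D.π.ker : ℂ)⁻¹ • ∑ h : D.π.ker, (((ν h)⁻¹ : ℂˣ) : ℂ) • D.t h

/-- the stabiliser of a weight in `N` -/
def Nl (ν : D.Wt) : Subgroup N where
  carrier := {a | D.act a ν = ν}
  one_mem' := by
    ext h
    simp [act]
  mul_mem' := fun {a b} (ha : D.act a ν = ν) (hb : D.act b ν = ν) => by
    ext h
    have h1 := DFunLike.congr_fun ha h
    have h2 := DFunLike.congr_fun hb (MulAut.conjNormal a⁻¹ h)
    simp only [act, MonoidHom.comp_apply, MulEquiv.coe_toMonoidHom, mul_inv_rev, map_mul, MulAut.mul_apply] at h1 h2 ⊢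
    rw [h2, h1]
  inv_mem' := fun {a} (ha : D.act a ν = ν) => by
    ext h
    have h1 := DFunLike.congr_fun ha (MulAut.conjNormal a h)
    simp only [act, MonoidHom.comp_apply, MulEquiv.coe_toMonoidHom, map_inv, MulAut.inv_apply_self, inv_inv] at h1 ⊢
    rw [h1]

/-- the stabiliser of a weight in `W` -/
def Wl (ν : D.Wt) : Subgroup W := (D.Nl ν).map D.π

/-- the quadratic relation of `t (n i)` on the weight `ν` has a linear term -/
def G0 [Finite N] (ν : D.Wt) (i : I) : Prop := ∀ c : ℂ, D.t (D.n i) * D.t (D.n i)⁻¹ * D.E ν ≠ c • D.E ν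

/-- good reflections -/
def Good [Finite N] (ν : D.Wt) (r : W) : Prop :=
  ∃ a i, r = (D.π a)⁻¹ * cs.simple i * D.π a ∧ D.G0 (D.act a ν) i

/-- the subgroup generated by the good reflections -/
def Rl [Finite N] (ν : D.Wt) : Subgroup W := Subgroup.closure {r | D.Good ν r}

/-- The hypotheses on the weight `ν` and the `σ`-semilinear automorphism `S`. -/
structure Hyp [Finite N] (ν : D.Wt) (σ : ℂ ≃+* ℂ) (S : 𝒜 ≃+* 𝒜) : Prop where
  five : ∀ r s, cs.IsReflection r → cs.IsReflection s → orderOf (r * s) ≠ 5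
  smul : ∀ (c : ℂ) x, S (c • x) = σ c • S x
  line : ∀ a ∈ D.Nl ν, ∃ c : ℂ, S (D.t a * D.E ν) = c • (D.t a * D.E ν)
  two : ∀ w ∈ D.Wl ν, ∃ k : ℕ, w ^ 2 ^ k ∈ D.Rl ν
  sgn : ∀ f : D.Wl ν →* ℂˣ, (∀ w : D.Wl ν, (w : W) ∈ D.Rl ν → f w = 1) → ∀ w, f w * f w = 1
  whit : D.Wl ν ≤ D.Rl ν ∨ ∃ x : 𝒜, x ≠ 0 ∧ D.E ν * x = x ∧ (∀ a ∈ D.Nl ν, ∃ β : ℂ, D.t a * x = β • x) ∧
    ∃ y, S x = x * y

end Dat

/-- the automorphism of the group algebra given by `σ` on the coefficients and `δ` on the group -/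
noncomputable def tw {G : Type} [Group G] (σ : ℂ ≃+* ℂ) (δ : G ≃* G) : Al G ≃+* Al G :=
  (MonoidAlgebra.mapRingEquiv G σ).trans (MonoidAlgebra.mapDomainRingEquiv ℂ δ)

theorem tw_dl {G : Type} [Group G] (σ : ℂ ≃+* ℂ) (δ : G ≃* G) (g : G) : tw σ δ (dl g) = dl (δ g) := by
  simp [tw, dl]

theorem tw_smul {G : Type} [Group G] (σ : ℂ ≃+* ℂ) (δ : G ≃* G) (c : ℂ) (x : Al G) :
    tw σ δ (c • x) = σ c • tw σ δ x := by
  induction x using al_induction generalizing c with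
  | hd g =>
    rw [tw_dl]
    simp [tw, dl]
  | ha a b ha hb => rw [smul_add, map_add, map_add, ha, hb, smul_add]
  | hs d a ha => rw [smul_smul, ha, ha, smul_smul, map_mul]

/-- the trace of the regular representation -/
theorem trace_mulLeft {G : Type} [Group G] [Finite G] (x : Al G) :
    LinearMap.trace ℂ (Al G) (LinearMap.mulLeft ℂ x) = Nat.card G * x.coeff 1 := by
  classical
  have := Fintype.ofFinite G
  rw [LinearMap.trace_eq_matrix_trace ℂ (MonoidAlgebra.basis G ℂ), Matrix.trace]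
  have h : ∀ g : G, Matrix.diag (LinearMap.toMatrix (MonoidAlgebra.basis G ℂ) (MonoidAlgebra.basis G ℂ)
      (LinearMap.mulLeft ℂ x)) g = x.coeff 1 := fun g => by
    rw [Matrix.diag_apply, LinearMap.toMatrix_apply]
    simp [MonoidAlgebra.basis]
  rw [Finset.sum_congr rfl fun g _ => h g]
  simp

/-- **Box AH**: an irreducible character of odd multiplicity over `ν` satisfies `χ ∘ δ = σ ∘ χ`. -/
def Main : Prop :=
  ∀ (I W : Type) [Finite I] [Group W] [Finite W] (M : CoxeterMatrix I) (cs : CoxeterSystem M W)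
    (N G : Type) [Group N] [Finite N] [Group G] [Finite G] (D : Dat cs N (Al G)) (ν : D.Wt) (σ : ℂ ≃+* ℂ) (δ : G ≃* G),
    D.Hyp ν σ (tw σ δ) → ∀ χ : G → ℂ, IsIrrCharacter G χ → (∃ m : ℕ, Odd m ∧ lin χ (D.E ν) = m) →
    ∀ g, χ (δ g) = σ (χ g)

end Cfsg.Agent.ODD.AH
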